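import Cfsg.Agent.Lib.Helper11.ONa.K0
import Cfsg.Agent.Lib.Helper11.ONa.K1
import Cfsg.Agent.Lib.Helper11.ONa.K2
import Cfsg.Agent.Lib.Helper11.ONa.K3
import Cfsg.Agent.Lib.Helper11.ONa.K4
import Cfsg.Agent.Lib.Helper11.ONa.K5
import Cfsg.Agent.Lib.Helper11.ONa.K6
import Cfsg.Agent.Lib.Helper11.ONa.K7
import Cfsg.Agent.Lib.Helper11.ONa.K8
import Cfsg.Agent.Lib.Helper11.ONa.K9
import Cfsg.Agent.Lib.Helper11.ONa.K10
import Cfsg.Agent.Lib.Helper11.ONa.K11
import Cfsg.Agent.Lib.Helper11.ONa.K12
import Cfsg.Agent.Lib.Helper11.ONa.K13
import Cfsg.Agent.Lib.Helper11.ONa.K14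
import Cfsg.Agent.Lib.Helper11.ONa.K15
import Cfsg.Agent.Lib.Helper11.ONa.K16
import Cfsg.Agent.Lib.Helper11.ONa.K17
import Cfsg.Agent.Lib.Helper11.ONa.K18
import Cfsg.Agent.Lib.Helper11.ONa.K19

set_option autoImplicit false
set_option maxRecDepth 100000

namespace Cfsg.Agent.Lib.Helper11.ONa

theorem chkAll : ∀ j < 5725, blk fc sc rt.get INV isH j = true :=
  guardB_spec (D := 13) (allR_join (allR_join (allR_join (allR_join (allR_join (allR_join (allR_join b0 b1 (by norm_num)) (allR_join b2 b3 (by norm_num)) (by norm_num)) (allR_join (allR_join b4 b5 (by norm_num)) (allR_join b6 b7 (by norm_num)) (by norm_num)) (by norm_num)) (allR_join (allR_join (allR_join b8 b9 (by norm_num)) (allR_join b10 b11 (by norm_num)) (by norm_num)) (allR_join (allR_join b12 b13 (by norm_num)) (allR_join b14 b15 (by norm_num)) (by norm_num)) (by norm_num)) (by norm_num)) (allR_join (allR_join (allR_join (allR_join b16 b17 (by norm_num)) (allR_join b18 b19 (by norm_num)) (by norm_num)) (allR_join (allR_join b20 b21 (by norm_num)) (allR_join b22 b23 (by norm_num)) (by norm_num)) (by norm_num))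 (allR_join (allR_join (allR_join b24 b25 (by norm_num)) (allR_join b26 b27 (by norm_num)) (by norm_num)) (allR_join (allR_join b28 b29 (by norm_num)) (allR_join b30 b31 (by norm_num)) (by norm_num)) (by norm_num)) (by norm_num)) (by norm_num)) (allR_join (allR_join (allR_join (allR_join (allR_join b32 b33 (by norm_num)) (allR_join b34 b35 (by norm_num)) (by norm_num)) (allR_join (allR_join b36 b37 (by norm_num)) (allR_join b38 b39 (by norm_num)) (by norm_num)) (by norm_num)) (allR_join (allR_join (allR_join b40 b41 (by norm_num)) (allR_join b42 b43 (by norm_num)) (by norm_num)) (allR_join (allR_join b44 b45 (by norm_num)) (allR_join b46 b47 (by norm_num)) (by norm_num)) (by norm_num)) (by norm_num)) (allR_join (allR_join (allR_join (allR_join b48 b49 (by norm_num)) (allR_join b50 b51 (by norm_num)) (by norm_num)) (allR_join (allR_join b52 b53 (by norm_num)) (allR_join b54 b55 (by norm_num)) (by norm_num)) (by norm_num)) (allR_join (allR_join (allR_join b56 b57 (by norm_num)) (allR_join b58 b59 (by norm_num)) (by norm_num)) (allR_join (allR_join b60 b61 (by norm_num)) (allR_join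 b62 b63 (by norm_num)) (by norm_num)) (by norm_num)) (by norm_num)) (by norm_num)) (by norm_num)) (allR_join (allR_join (allR_join (allR_join (allR_join (allR_join b64 b65 (by norm_num)) (allR_join b66 b67 (by norm_num)) (by norm_num)) (allR_join (allR_join b68 b69 (by norm_num)) (allR_join b70 b71 (by norm_num)) (by norm_num)) (by norm_num)) (allR_join (allR_join (allR_join b72 b73 (by norm_num)) (allR_join b74 b75 (by norm_num)) (by norm_num)) (allR_join (allR_join b76 b77 (by norm_num)) (allR_join b78 b79 (by norm_num)) (by norm_num)) (by norm_num)) (by norm_num)) (allR_join (allR_join (allR_join (allR_join b80 b81 (by norm_num)) (allR_join b82 b83 (by norm_num)) (by norm_num)) (allR_join (allR_join b84 b85 (by norm_num)) (allR_join b86 b87 (by norm_num)) (by norm_num)) (by norm_num)) (allR_join (allR_join (allR_join b88 b89 (by norm_num)) (allR_join b90 b91 (by norm_num)) (by norm_num)) (allR_join (allR_join b92 b93 (by norm_num)) (allR_join b94 b95 (by norm_num)) (by norm_num)) (by norm_num)) (by norm_num)) (by norm_num)) (allR_join (allR_join (allR_join (allR_join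 (allR_join b96 b97 (by norm_num)) (allR_join b98 b99 (by norm_num)) (by norm_num)) (allR_join (allR_join b100 b101 (by norm_num)) (allR_join b102 b103 (by norm_num)) (by norm_num)) (by norm_num)) (allR_join (allR_join (allR_join b104 b105 (by norm_num)) (allR_join b106 b107 (by norm_num)) (by norm_num)) (allR_join (allR_join b108 b109 (by norm_num)) (allR_join b110 b111 (by norm_num)) (by norm_num)) (by norm_num)) (by norm_num)) (allR_join (allR_join (allR_join (allR_join b112 b113 (by norm_num)) (allR_join b114 b115 (by norm_num)) (by norm_num)) (allR_join (allR_join b116 b117 (by norm_num)) (allR_join b118 b119 (by norm_num)) (by norm_num)) (by norm_num)) (allR_join (allR_join (allR_join b120 b121 (by norm_num)) (allR_join b122 b123 (by norm_num)) (by norm_num)) (allR_join (allR_join b124 b125 (by norm_num)) (allR_join b126 b127 (by norm_num)) (by norm_num)) (by norm_num)) (by norm_num)) (by norm_num)) (by norm_num)) (by norm_num)) (by norm_num)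

theorem clAll : ∀ jb < 3837, cblk fc nc cc (256 * 5725) 122760 139984046386112763159840142535527767382602843577165595931249318810236991948760059086304843329475444736 gens jb = true :=
  guardB_spec (D := 12) (allR_join (allR_join (allR_join (allR_join (allR_join c0 c1 (by norm_num)) (allR_join c2 c3 (by norm_num)) (by norm_num)) (allR_join (allR_join c4 c5 (by norm_num)) (allR_join c6 c7 (by norm_num)) (by norm_num)) (by norm_num)) (allR_join (allR_join (allR_join c8 c9 (by norm_num)) (allR_join c10 c11 (by norm_num)) (by norm_num)) (allR_join (allR_join c12 c13 (by norm_num)) (allR_join c14 c15 (by norm_num)) (by norm_num)) (by norm_num)) (by norm_num)) (allR_join (allR_join (allR_join (allR_join c16 c17 (by norm_num)) (allR_join c18 c19 (by norm_num)) (by norm_num)) (allR_join (allR_join c20 c21 (by norm_num)) (allR_join c22 c23 (by norm_num)) (by norm_num)) (by norm_num)) (allR_join (allR_join (allR_join c24 c25 (by norm_num)) (allR_join c26 c27 (by norm_num)) (by norm_num)) (allR_join (allR_join c28 c29 (by norm_num)) (allR_join c30 c31 (by norm_num)) (by norm_num))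 (by norm_num)) (by norm_num)) (by norm_num)) (by norm_num)

theorem hN0 : getN nc 0 = 0 := by decide +kernel


end Cfsg.Agent.Lib.Helper11.ONa
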