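import Cfsg.Agent.Lib.Helper11.ONa.D0
import Cfsg.Agent.Lib.Helper11.ONa.D1
import Cfsg.Agent.Lib.Helper11.ONa.D2
import Cfsg.Agent.Lib.Helper11.ONa.D3
import Cfsg.Agent.Lib.Helper11.ONa.D4
import Cfsg.Agent.Lib.Helper11.ONa.D5
import Cfsg.Agent.Lib.Helper11.ONa.D6
import Cfsg.Agent.Lib.Helper11.ONa.D7
import Cfsg.Agent.Lib.Helper11.ONa.D8
import Cfsg.Agent.Lib.Helper11.ONa.D9
import Cfsg.Agent.Lib.Helper11.ONa.D10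
import Cfsg.Agent.Lib.Helper11.ONa.D11
import Cfsg.Agent.Lib.Helper11.ONa.D12
import Cfsg.Agent.Lib.Helper11.ONa.D13
import Cfsg.Agent.Lib.Helper11.ONa.D14
import Cfsg.Agent.Lib.Helper11.ONa.D15
import Cfsg.Agent.Lib.Helper11.ONa.D16
import Cfsg.Agent.Lib.Helper11.Words

set_option autoImplicit false
set_option maxRecDepth 100000

namespace Cfsg.Agent.Lib.Helper11.ONa

noncomputable def fc1_0 (i : ℕ) : ℕ := (Bool.rec (Bool.rec (Bool.rec (Bool.rec (fc0_0 i) (fc0_1 i) (Nat.ble 16 i)) (Bool.rec (fc0_2 i) (fc0_3 i) (Nat.ble 48 i)) (Nat.ble 32 i)) (Bool.rec (Bool.rec (fc0_4 i) (fc0_5 i) (Nat.ble 80 i)) (Bool.rec (fc0_6 i) (fc0_7 i) (Nat.ble 112 i)) (Nat.ble 96 i)) (Nat.ble 64 i)) (Bool.rec (Bool.rec (Bool.rec (fc0_8 i) (fc0_9 i) (Nat.ble 144 i)) (Bool.rec (fc0_10 i) (fc0_11 i) (Nat.ble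 176 i)) (Nat.ble 160 i)) (Bool.rec (Bool.rec (fc0_12 i) (fc0_13 i) (Nat.ble 208 i)) (Bool.rec (fc0_14 i) (fc0_15 i) (Nat.ble 240 i)) (Nat.ble 224 i)) (Nat.ble 192 i)) (Nat.ble 128 i))
noncomputable def fc1_1 (i : ℕ) : ℕ := (Bool.rec (Bool.rec (Bool.rec (Bool.rec (fc0_16 i) (fc0_17 i) (Nat.ble 272 i)) (Bool.rec (fc0_18 i) (fc0_19 i) (Nat.ble 304 i)) (Nat.ble 288 i)) (Bool.rec (Bool.rec (fc0_20 i) (fc0_21 i) (Nat.ble 336 i)) (Bool.rec (fc0_22 i) (fc0_23 i) (Nat.ble 368 i)) (Nat.ble 352 i)) (Nat.ble 320 i)) (Bool.rec (Bool.rec (Bool.rec (fc0_24 i) (fc0_25 i) (Nat.ble 400 i)) (Bool.rec (fc0_26 i) (fc0_27 i) (Nat.ble 432 i)) (Nat.ble 416 i)) (Bool.rec (Bool.rec (fc0_28 i) (fc0_29 i) (Nat.ble 464 i)) (Bool.rec (fc0_30 i) (fc0_31 i) (Nat.ble 496 i)) (Nat.ble 480 i)) (Nat.ble 448 i)) (Nat.ble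 384 i))
noncomputable def fc1_2 (i : ℕ) : ℕ := (Bool.rec (Bool.rec (Bool.rec (Bool.rec (fc0_32 i) (fc0_33 i) (Nat.ble 528 i)) (Bool.rec (fc0_34 i) (fc0_35 i) (Nat.ble 560 i)) (Nat.ble 544 i)) (Bool.rec (Bool.rec (fc0_36 i) (fc0_37 i) (Nat.ble 592 i)) (Bool.rec (fc0_38 i) (fc0_39 i) (Nat.ble 624 i)) (Nat.ble 608 i)) (Nat.ble 576 i)) (Bool.rec (Bool.rec (Bool.rec (fc0_40 i) (fc0_41 i) (Nat.ble 656 i)) (Bool.rec (fc0_42 i) (fc0_43 i) (Nat.ble 688 i)) (Nat.ble 672 i)) (Bool.rec (Bool.rec (fc0_44 i) (fc0_45 i) (Nat.ble 720 i)) (Bool.rec (fc0_46 i) (fc0_47 i) (Nat.ble 752 i)) (Nat.ble 736 i)) (Nat.ble 704 i)) (Nat.ble 640 i))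
noncomputable def fc1_3 (i : ℕ) : ℕ := (Bool.rec (Bool.rec (Bool.rec (Bool.rec (fc0_48 i) (fc0_49 i) (Nat.ble 784 i)) (Bool.rec (fc0_50 i) (fc0_51 i) (Nat.ble 816 i)) (Nat.ble 800 i)) (Bool.rec (Bool.rec (fc0_52 i) (fc0_53 i) (Nat.ble 848 i)) (Bool.rec (fc0_54 i) (fc0_55 i) (Nat.ble 880 i)) (Nat.ble 864 i)) (Nat.ble 832 i)) (Bool.rec (Bool.rec (Bool.rec (fc0_56 i) (fc0_57 i) (Nat.ble 912 i)) (Bool.rec (fc0_58 i) (fc0_59 i) (Nat.ble 944 i)) (Nat.ble 928 i)) (Bool.rec (Bool.rec (fc0_60 i) (fc0_61 i) (Nat.ble 976 i)) (Bool.rec (fc0_62 i) (fc0_63 i) (Nat.ble 1008 i)) (Nat.ble 992 i)) (Nat.ble 960 i)) (Nat.ble 896 i))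
noncomputable def fc1_4 (i : ℕ) : ℕ := (Bool.rec (Bool.rec (Bool.rec (Bool.rec (fc0_64 i) (fc0_65 i) (Nat.ble 1040 i)) (Bool.rec (fc0_66 i) (fc0_67 i) (Nat.ble 1072 i)) (Nat.ble 1056 i)) (Bool.rec (Bool.rec (fc0_68 i) (fc0_69 i) (Nat.ble 1104 i)) (Bool.rec (fc0_70 i) (fc0_71 i) (Nat.ble 1136 i)) (Nat.ble 1120 i)) (Nat.ble 1088 i)) (Bool.rec (Bool.rec (Bool.rec (fc0_72 i) (fc0_73 i) (Nat.ble 1168 i)) (Bool.rec (fc0_74 i) (fc0_75 i) (Nat.ble 1200 i)) (Nat.ble 1184 i)) (Bool.rec (Bool.rec (fc0_76 i) (fc0_77 i) (Nat.ble 1232 i)) (Bool.rec (fc0_78 i) (fc0_79 i) (Nat.ble 1264 i)) (Nat.ble 1248 i)) (Nat.ble 1216 i)) (Nat.ble 1152 i))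
noncomputable def fc1_5 (i : ℕ) : ℕ := (Bool.rec (Bool.rec (Bool.rec (Bool.rec (fc0_80 i) (fc0_81 i) (Nat.ble 1296 i)) (Bool.rec (fc0_82 i) (fc0_83 i) (Nat.ble 1328 i)) (Nat.ble 1312 i)) (Bool.rec (Bool.rec (fc0_84 i) (fc0_85 i) (Nat.ble 1360 i)) (Bool.rec (fc0_86 i) (fc0_87 i) (Nat.ble 1392 i)) (Nat.ble 1376 i)) (Nat.ble 1344 i)) (Bool.rec (Bool.rec (Bool.rec (fc0_88 i) (fc0_89 i) (Nat.ble 1424 i)) (Bool.rec (fc0_90 i) (fc0_91 i) (Nat.ble 1456 i)) (Nat.ble 1440 i)) (Bool.rec (Bool.rec (fc0_92 i) (fc0_93 i) (Nat.ble 1488 i)) (Bool.rec (fc0_94 i) (fc0_95 i) (Nat.ble 1520 i)) (Nat.ble 1504 i)) (Nat.ble 1472 i)) (Nat.ble 1408 i))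
noncomputable def fc1_6 (i : ℕ) : ℕ := (Bool.rec (Bool.rec (Bool.rec (Bool.rec (fc0_96 i) (fc0_97 i) (Nat.ble 1552 i)) (Bool.rec (fc0_98 i) (fc0_99 i) (Nat.ble 1584 i)) (Nat.ble 1568 i)) (Bool.rec (Bool.rec (fc0_100 i) (fc0_101 i) (Nat.ble 1616 i)) (Bool.rec (fc0_102 i) (fc0_103 i) (Nat.ble 1648 i)) (Nat.ble 1632 i)) (Nat.ble 1600 i)) (Bool.rec (Bool.rec (Bool.rec (fc0_104 i) (fc0_105 i) (Nat.ble 1680 i)) (Bool.rec (fc0_106 i) (fc0_107 i) (Nat.ble 1712 i)) (Nat.ble 1696 i)) (Bool.rec (Bool.rec (fc0_108 i) (fc0_109 i) (Nat.ble 1744 i)) (Bool.rec (fc0_110 i) (fc0_111 i) (Nat.ble 1776 i)) (Nat.ble 1760 i)) (Nat.ble 1728 i)) (Nat.ble 1664 i))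
noncomputable def fc1_7 (i : ℕ) : ℕ := (Bool.rec (Bool.rec (Bool.rec (Bool.rec (fc0_112 i) (fc0_113 i) (Nat.ble 1808 i)) (Bool.rec (fc0_114 i) (fc0_115 i) (Nat.ble 1840 i)) (Nat.ble 1824 i)) (Bool.rec (Bool.rec (fc0_116 i) (fc0_117 i) (Nat.ble 1872 i)) (Bool.rec (fc0_118 i) (fc0_119 i) (Nat.ble 1904 i)) (Nat.ble 1888 i)) (Nat.ble 1856 i)) (Bool.rec (Bool.rec (Bool.rec (fc0_120 i) (fc0_121 i) (Nat.ble 1936 i)) (Bool.rec (fc0_122 i) (fc0_123 i) (Nat.ble 1968 i)) (Nat.ble 1952 i)) (Bool.rec (Bool.rec (fc0_124 i) (fc0_125 i) (Nat.ble 2000 i)) (Bool.rec (fc0_126 i) (fc0_127 i) (Nat.ble 2032 i)) (Nat.ble 2016 i)) (Nat.ble 1984 i)) (Nat.ble 1920 i))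
noncomputable def fc1_8 (i : ℕ) : ℕ := (Bool.rec (Bool.rec (Bool.rec (Bool.rec (fc0_128 i) (fc0_129 i) (Nat.ble 2064 i)) (Bool.rec (fc0_130 i) (fc0_131 i) (Nat.ble 2096 i)) (Nat.ble 2080 i)) (Bool.rec (Bool.rec (fc0_132 i) (fc0_133 i) (Nat.ble 2128 i)) (Bool.rec (fc0_134 i) (fc0_135 i) (Nat.ble 2160 i)) (Nat.ble 2144 i)) (Nat.ble 2112 i)) (Bool.rec (Bool.rec (Bool.rec (fc0_136 i) (fc0_137 i) (Nat.ble 2192 i)) (Bool.rec (fc0_138 i) (fc0_139 i) (Nat.ble 2224 i)) (Nat.ble 2208 i)) (Bool.rec (Bool.rec (fc0_140 i) (fc0_141 i) (Nat.ble 2256 i)) (Bool.rec (fc0_142 i) (fc0_143 i) (Nat.ble 2288 i)) (Nat.ble 2272 i)) (Nat.ble 2240 i)) (Nat.ble 2176 i))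
noncomputable def fc1_9 (i : ℕ) : ℕ := (Bool.rec (Bool.rec (Bool.rec (Bool.rec (fc0_144 i) (fc0_145 i) (Nat.ble 2320 i)) (Bool.rec (fc0_146 i) (fc0_147 i) (Nat.ble 2352 i)) (Nat.ble 2336 i)) (Bool.rec (Bool.rec (fc0_148 i) (fc0_149 i) (Nat.ble 2384 i)) (Bool.rec (fc0_150 i) (fc0_151 i) (Nat.ble 2416 i)) (Nat.ble 2400 i)) (Nat.ble 2368 i)) (Bool.rec (Bool.rec (Bool.rec (fc0_152 i) (fc0_153 i) (Nat.ble 2448 i)) (Bool.rec (fc0_154 i) (fc0_155 i) (Nat.ble 2480 i)) (Nat.ble 2464 i)) (Bool.rec (Bool.rec (fc0_156 i) (fc0_157 i) (Nat.ble 2512 i)) (Bool.rec (fc0_158 i) (fc0_159 i) (Nat.ble 2544 i)) (Nat.ble 2528 i)) (Nat.ble 2496 i)) (Nat.ble 2432 i))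
noncomputable def fc1_10 (i : ℕ) : ℕ := (Bool.rec (Bool.rec (Bool.rec (Bool.rec (fc0_160 i) (fc0_161 i) (Nat.ble 2576 i)) (Bool.rec (fc0_162 i) (fc0_163 i) (Nat.ble 2608 i)) (Nat.ble 2592 i)) (Bool.rec (Bool.rec (fc0_164 i) (fc0_165 i) (Nat.ble 2640 i)) (Bool.rec (fc0_166 i) (fc0_167 i) (Nat.ble 2672 i)) (Nat.ble 2656 i)) (Nat.ble 2624 i)) (Bool.rec (Bool.rec (Bool.rec (fc0_168 i) (fc0_169 i) (Nat.ble 2704 i)) (Bool.rec (fc0_170 i) (fc0_171 i) (Nat.ble 2736 i)) (Nat.ble 2720 i)) (Bool.rec (Bool.rec (fc0_172 i) (fc0_173 i) (Nat.ble 2768 i)) (Bool.rec (fc0_174 i) (fc0_175 i) (Nat.ble 2800 i)) (Nat.ble 2784 i)) (Nat.ble 2752 i)) (Nat.ble 2688 i))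
noncomputable def fc1_11 (i : ℕ) : ℕ := (Bool.rec (Bool.rec (Bool.rec (Bool.rec (fc0_176 i) (fc0_177 i) (Nat.ble 2832 i)) (Bool.rec (fc0_178 i) (fc0_179 i) (Nat.ble 2864 i)) (Nat.ble 2848 i)) (Bool.rec (Bool.rec (fc0_180 i) (fc0_181 i) (Nat.ble 2896 i)) (Bool.rec (fc0_182 i) (fc0_183 i) (Nat.ble 2928 i)) (Nat.ble 2912 i)) (Nat.ble 2880 i)) (Bool.rec (Bool.rec (Bool.rec (fc0_184 i) (fc0_185 i) (Nat.ble 2960 i)) (Bool.rec (fc0_186 i) (fc0_187 i) (Nat.ble 2992 i)) (Nat.ble 2976 i)) (Bool.rec (Bool.rec (fc0_188 i) (fc0_189 i) (Nat.ble 3024 i)) (Bool.rec (fc0_190 i) (fc0_191 i) (Nat.ble 3056 i)) (Nat.ble 3040 i)) (Nat.ble 3008 i)) (Nat.ble 2944 i))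
noncomputable def fc1_12 (i : ℕ) : ℕ := (Bool.rec (Bool.rec (Bool.rec (Bool.rec (fc0_192 i) (fc0_193 i) (Nat.ble 3088 i)) (Bool.rec (fc0_194 i) (fc0_195 i) (Nat.ble 3120 i)) (Nat.ble 3104 i)) (Bool.rec (Bool.rec (fc0_196 i) (fc0_197 i) (Nat.ble 3152 i)) (Bool.rec (fc0_198 i) (fc0_199 i) (Nat.ble 3184 i)) (Nat.ble 3168 i)) (Nat.ble 3136 i)) (Bool.rec (Bool.rec (Bool.rec (fc0_200 i) (fc0_201 i) (Nat.ble 3216 i)) (Bool.rec (fc0_202 i) (fc0_203 i) (Nat.ble 3248 i)) (Nat.ble 3232 i)) (Bool.rec (Bool.rec (fc0_204 i) (fc0_205 i) (Nat.ble 3280 i)) (Bool.rec (fc0_206 i) (fc0_207 i) (Nat.ble 3312 i)) (Nat.ble 3296 i)) (Nat.ble 3264 i)) (Nat.ble 3200 i))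
noncomputable def fc1_13 (i : ℕ) : ℕ := (Bool.rec (Bool.rec (Bool.rec (Bool.rec (fc0_208 i) (fc0_209 i) (Nat.ble 3344 i)) (Bool.rec (fc0_210 i) (fc0_211 i) (Nat.ble 3376 i)) (Nat.ble 3360 i)) (Bool.rec (Bool.rec (fc0_212 i) (fc0_213 i) (Nat.ble 3408 i)) (Bool.rec (fc0_214 i) (fc0_215 i) (Nat.ble 3440 i)) (Nat.ble 3424 i)) (Nat.ble 3392 i)) (Bool.rec (Bool.rec (Bool.rec (fc0_216 i) (fc0_217 i) (Nat.ble 3472 i)) (Bool.rec (fc0_218 i) (fc0_219 i) (Nat.ble 3504 i)) (Nat.ble 3488 i)) (Bool.rec (Bool.rec (fc0_220 i) (fc0_221 i) (Nat.ble 3536 i)) (Bool.rec (fc0_222 i) (fc0_223 i) (Nat.ble 3568 i)) (Nat.ble 3552 i)) (Nat.ble 3520 i)) (Nat.ble 3456 i))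
noncomputable def fc1_14 (i : ℕ) : ℕ := (Bool.rec (Bool.rec (Bool.rec (Bool.rec (fc0_224 i) (fc0_225 i) (Nat.ble 3600 i)) (Bool.rec (fc0_226 i) (fc0_227 i) (Nat.ble 3632 i)) (Nat.ble 3616 i)) (Bool.rec (Bool.rec (fc0_228 i) (fc0_229 i) (Nat.ble 3664 i)) (Bool.rec (fc0_230 i) (fc0_231 i) (Nat.ble 3696 i)) (Nat.ble 3680 i)) (Nat.ble 3648 i)) (Bool.rec (Bool.rec (Bool.rec (fc0_232 i) (fc0_233 i) (Nat.ble 3728 i)) (Bool.rec (fc0_234 i) (fc0_235 i) (Nat.ble 3760 i)) (Nat.ble 3744 i)) (Bool.rec (Bool.rec (fc0_236 i) (fc0_237 i) (Nat.ble 3792 i)) (Bool.rec (fc0_238 i) (fc0_239 i) (Nat.ble 3824 i)) (Nat.ble 3808 i)) (Nat.ble 3776 i)) (Nat.ble 3712 i))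
noncomputable def fc1_15 (i : ℕ) : ℕ := (Bool.rec (Bool.rec (Bool.rec (Bool.rec (fc0_240 i) (fc0_241 i) (Nat.ble 3856 i)) (Bool.rec (fc0_242 i) (fc0_243 i) (Nat.ble 3888 i)) (Nat.ble 3872 i)) (Bool.rec (Bool.rec (fc0_244 i) (fc0_245 i) (Nat.ble 3920 i)) (Bool.rec (fc0_246 i) (fc0_247 i) (Nat.ble 3952 i)) (Nat.ble 3936 i)) (Nat.ble 3904 i)) (Bool.rec (Bool.rec (Bool.rec (fc0_248 i) (fc0_249 i) (Nat.ble 3984 i)) (Bool.rec (fc0_250 i) (fc0_251 i) (Nat.ble 4016 i)) (Nat.ble 4000 i)) (Bool.rec (Bool.rec (fc0_252 i) (fc0_253 i) (Nat.ble 4048 i)) (Bool.rec (fc0_254 i) (fc0_255 i) (Nat.ble 4080 i)) (Nat.ble 4064 i)) (Nat.ble 4032 i)) (Nat.ble 3968 i))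
noncomputable def fc1_16 (i : ℕ) : ℕ := (Bool.rec (Bool.rec (Bool.rec (Bool.rec (fc0_256 i) (fc0_257 i) (Nat.ble 4112 i)) (Bool.rec (fc0_258 i) (fc0_259 i) (Nat.ble 4144 i)) (Nat.ble 4128 i)) (Bool.rec (Bool.rec (fc0_260 i) (fc0_261 i) (Nat.ble 4176 i)) (Bool.rec (fc0_262 i) (fc0_263 i) (Nat.ble 4208 i)) (Nat.ble 4192 i)) (Nat.ble 4160 i)) (Bool.rec (Bool.rec (Bool.rec (fc0_264 i) (fc0_265 i) (Nat.ble 4240 i)) (Bool.rec (fc0_266 i) (fc0_267 i) (Nat.ble 4272 i)) (Nat.ble 4256 i)) (Bool.rec (Bool.rec (fc0_268 i) (fc0_269 i) (Nat.ble 4304 i)) (Bool.rec (fc0_270 i) (fc0_271 i) (Nat.ble 4336 i)) (Nat.ble 4320 i)) (Nat.ble 4288 i)) (Nat.ble 4224 i))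
noncomputable def fc1_17 (i : ℕ) : ℕ := (Bool.rec (Bool.rec (Bool.rec (Bool.rec (fc0_272 i) (fc0_273 i) (Nat.ble 4368 i)) (Bool.rec (fc0_274 i) (fc0_275 i) (Nat.ble 4400 i)) (Nat.ble 4384 i)) (Bool.rec (Bool.rec (fc0_276 i) (fc0_277 i) (Nat.ble 4432 i)) (Bool.rec (fc0_278 i) (fc0_279 i) (Nat.ble 4464 i)) (Nat.ble 4448 i)) (Nat.ble 4416 i)) (Bool.rec (Bool.rec (Bool.rec (fc0_280 i) (fc0_281 i) (Nat.ble 4496 i)) (Bool.rec (fc0_282 i) (fc0_283 i) (Nat.ble 4528 i)) (Nat.ble 4512 i)) (Bool.rec (Bool.rec (fc0_284 i) (fc0_285 i) (Nat.ble 4560 i)) (Bool.rec (fc0_286 i) (fc0_287 i) (Nat.ble 4592 i)) (Nat.ble 4576 i)) (Nat.ble 4544 i)) (Nat.ble 4480 i))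
noncomputable def fc1_18 (i : ℕ) : ℕ := (Bool.rec (Bool.rec (Bool.rec (Bool.rec (fc0_288 i) (fc0_289 i) (Nat.ble 4624 i)) (Bool.rec (fc0_290 i) (fc0_291 i) (Nat.ble 4656 i)) (Nat.ble 4640 i)) (Bool.rec (Bool.rec (fc0_292 i) (fc0_293 i) (Nat.ble 4688 i)) (Bool.rec (fc0_294 i) (fc0_295 i) (Nat.ble 4720 i)) (Nat.ble 4704 i)) (Nat.ble 4672 i)) (Bool.rec (Bool.rec (Bool.rec (fc0_296 i) (fc0_297 i) (Nat.ble 4752 i)) (Bool.rec (fc0_298 i) (fc0_299 i) (Nat.ble 4784 i)) (Nat.ble 4768 i)) (Bool.rec (Bool.rec (fc0_300 i) (fc0_301 i) (Nat.ble 4816 i)) (Bool.rec (fc0_302 i) (fc0_303 i) (Nat.ble 4848 i)) (Nat.ble 4832 i)) (Nat.ble 4800 i)) (Nat.ble 4736 i))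
noncomputable def fc1_19 (i : ℕ) : ℕ := (Bool.rec (Bool.rec (Bool.rec (Bool.rec (fc0_304 i) (fc0_305 i) (Nat.ble 4880 i)) (Bool.rec (fc0_306 i) (fc0_307 i) (Nat.ble 4912 i)) (Nat.ble 4896 i)) (Bool.rec (Bool.rec (fc0_308 i) (fc0_309 i) (Nat.ble 4944 i)) (Bool.rec (fc0_310 i) (fc0_311 i) (Nat.ble 4976 i)) (Nat.ble 4960 i)) (Nat.ble 4928 i)) (Bool.rec (Bool.rec (Bool.rec (fc0_312 i) (fc0_313 i) (Nat.ble 5008 i)) (Bool.rec (fc0_314 i) (fc0_315 i) (Nat.ble 5040 i)) (Nat.ble 5024 i)) (Bool.rec (Bool.rec (fc0_316 i) (fc0_317 i) (Nat.ble 5072 i)) (Bool.rec (fc0_318 i) (fc0_319 i) (Nat.ble 5104 i)) (Nat.ble 5088 i)) (Nat.ble 5056 i)) (Nat.ble 4992 i))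
noncomputable def fc1_20 (i : ℕ) : ℕ := (Bool.rec (Bool.rec (Bool.rec (Bool.rec (fc0_320 i) (fc0_321 i) (Nat.ble 5136 i)) (Bool.rec (fc0_322 i) (fc0_323 i) (Nat.ble 5168 i)) (Nat.ble 5152 i)) (Bool.rec (Bool.rec (fc0_324 i) (fc0_325 i) (Nat.ble 5200 i)) (Bool.rec (fc0_326 i) (fc0_327 i) (Nat.ble 5232 i)) (Nat.ble 5216 i)) (Nat.ble 5184 i)) (Bool.rec (Bool.rec (Bool.rec (fc0_328 i) (fc0_329 i) (Nat.ble 5264 i)) (Bool.rec (fc0_330 i) (fc0_331 i) (Nat.ble 5296 i)) (Nat.ble 5280 i)) (Bool.rec (Bool.rec (fc0_332 i) (fc0_333 i) (Nat.ble 5328 i)) (Bool.rec (fc0_334 i) (fc0_335 i) (Nat.ble 5360 i)) (Nat.ble 5344 i)) (Nat.ble 5312 i)) (Nat.ble 5248 i))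
noncomputable def fc1_21 (i : ℕ) : ℕ := (Bool.rec (Bool.rec (Bool.rec (Bool.rec (fc0_336 i) (fc0_337 i) (Nat.ble 5392 i)) (Bool.rec (fc0_338 i) (fc0_339 i) (Nat.ble 5424 i)) (Nat.ble 5408 i)) (Bool.rec (Bool.rec (fc0_340 i) (fc0_341 i) (Nat.ble 5456 i)) (Bool.rec (fc0_342 i) (fc0_343 i) (Nat.ble 5488 i)) (Nat.ble 5472 i)) (Nat.ble 5440 i)) (Bool.rec (Bool.rec (Bool.rec (fc0_344 i) (fc0_345 i) (Nat.ble 5520 i)) (Bool.rec (fc0_346 i) (fc0_347 i) (Nat.ble 5552 i)) (Nat.ble 5536 i)) (Bool.rec (Bool.rec (fc0_348 i) (fc0_349 i) (Nat.ble 5584 i)) (Bool.rec (fc0_350 i) (fc0_351 i) (Nat.ble 5616 i)) (Nat.ble 5600 i)) (Nat.ble 5568 i)) (Nat.ble 5504 i))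
noncomputable def fc1_22 (i : ℕ) : ℕ := (Bool.rec (Bool.rec (fc0_352 i) (Bool.rec (fc0_353 i) (fc0_354 i) (Nat.ble 5664 i)) (Nat.ble 5648 i)) (Bool.rec (fc0_355 i) (Bool.rec (fc0_356 i) (fc0_357 i) (Nat.ble 5712 i)) (Nat.ble 5696 i)) (Nat.ble 5680 i))
noncomputable def fc2_0 (i : ℕ) : ℕ := (Bool.rec (Bool.rec (Bool.rec (Bool.rec (fc1_0 i) (fc1_1 i) (Nat.ble 256 i)) (Bool.rec (fc1_2 i) (fc1_3 i) (Nat.ble 768 i)) (Nat.ble 512 i)) (Bool.rec (Bool.rec (fc1_4 i) (fc1_5 i) (Nat.ble 1280 i)) (Bool.rec (fc1_6 i) (fc1_7 i) (Nat.ble 1792 i)) (Nat.ble 1536 i)) (Nat.ble 1024 i)) (Bool.rec (Bool.rec (Bool.rec (fc1_8 i) (fc1_9 i) (Nat.ble 2304 i)) (Bool.rec (fc1_10 i) (fc1_11 i) (Nat.ble 2816 i)) (Nat.ble 2560 i)) (Bool.rec (Bool.rec (fc1_12 i) (fc1_13 i) (Nat.ble 3328 i)) (Bool.rec (fc1_14 i)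 (fc1_15 i) (Nat.ble 3840 i)) (Nat.ble 3584 i)) (Nat.ble 3072 i)) (Nat.ble 2048 i))
noncomputable def fc2_1 (i : ℕ) : ℕ := (Bool.rec (Bool.rec (fc1_16 i) (Bool.rec (fc1_17 i) (fc1_18 i) (Nat.ble 4608 i)) (Nat.ble 4352 i)) (Bool.rec (Bool.rec (fc1_19 i) (fc1_20 i) (Nat.ble 5120 i)) (Bool.rec (fc1_21 i) (fc1_22 i) (Nat.ble 5632 i)) (Nat.ble 5376 i)) (Nat.ble 4864 i))
noncomputable def fc3_0 (i : ℕ) : ℕ := (Bool.rec (fc2_0 i) (fc2_1 i) (Nat.ble 4096 i))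
noncomputable def fc (i : ℕ) : ℕ := fc3_0 i
noncomputable def sc1_0 (i : ℕ) : ℕ := (Bool.rec (Bool.rec (Bool.rec (Bool.rec (sc0_0 i) (sc0_1 i) (Nat.ble 16 i)) (Bool.rec (sc0_2 i) (sc0_3 i) (Nat.ble 48 i)) (Nat.ble 32 i)) (Bool.rec (Bool.rec (sc0_4 i) (sc0_5 i) (Nat.ble 80 i)) (Bool.rec (sc0_6 i) (sc0_7 i) (Nat.ble 112 i)) (Nat.ble 96 i)) (Nat.ble 64 i)) (Bool.rec (Bool.rec (Bool.rec (sc0_8 i) (sc0_9 i) (Nat.ble 144 i)) (Bool.rec (sc0_10 i) (sc0_11 i) (Nat.ble 176 i)) (Nat.ble 160 i)) (Bool.rec (Bool.rec (sc0_12 i) (sc0_13 i) (Nat.ble 208 i)) (Bool.rec (sc0_14 i) (sc0_15 i) (Nat.ble 240 i)) (Nat.ble 224 i)) (Nat.ble 192 i)) (Nat.ble 128 i))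
noncomputable def sc1_1 (i : ℕ) : ℕ := (Bool.rec (Bool.rec (Bool.rec (Bool.rec (sc0_16 i) (sc0_17 i) (Nat.ble 272 i)) (Bool.rec (sc0_18 i) (sc0_19 i) (Nat.ble 304 i)) (Nat.ble 288 i)) (Bool.rec (Bool.rec (sc0_20 i) (sc0_21 i) (Nat.ble 336 i)) (Bool.rec (sc0_22 i) (sc0_23 i) (Nat.ble 368 i)) (Nat.ble 352 i)) (Nat.ble 320 i)) (Bool.rec (Bool.rec (Bool.rec (sc0_24 i) (sc0_25 i) (Nat.ble 400 i)) (Bool.rec (sc0_26 i) (sc0_27 i) (Nat.ble 432 i)) (Nat.ble 416 i)) (Bool.rec (Bool.rec (sc0_28 i) (sc0_29 i) (Nat.ble 464 i)) (Bool.rec (sc0_30 i) (sc0_31 i) (Nat.ble 496 i)) (Nat.ble 480 i)) (Nat.ble 448 i)) (Nat.ble 384 i))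
noncomputable def sc1_2 (i : ℕ) : ℕ := (Bool.rec (Bool.rec (Bool.rec (Bool.rec (sc0_32 i) (sc0_33 i) (Nat.ble 528 i)) (Bool.rec (sc0_34 i) (sc0_35 i) (Nat.ble 560 i)) (Nat.ble 544 i)) (Bool.rec (Bool.rec (sc0_36 i) (sc0_37 i) (Nat.ble 592 i)) (Bool.rec (sc0_38 i) (sc0_39 i) (Nat.ble 624 i)) (Nat.ble 608 i)) (Nat.ble 576 i)) (Bool.rec (Bool.rec (Bool.rec (sc0_40 i) (sc0_41 i) (Nat.ble 656 i)) (Bool.rec (sc0_42 i) (sc0_43 i) (Nat.ble 688 i)) (Nat.ble 672 i)) (Bool.rec (Bool.rec (sc0_44 i) (sc0_45 i) (Nat.ble 720 i)) (Bool.rec (sc0_46 i) (sc0_47 i) (Nat.ble 752 i)) (Nat.ble 736 i)) (Nat.ble 704 i)) (Nat.ble 640 i))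
noncomputable def sc1_3 (i : ℕ) : ℕ := (Bool.rec (Bool.rec (Bool.rec (Bool.rec (sc0_48 i) (sc0_49 i) (Nat.ble 784 i)) (Bool.rec (sc0_50 i) (sc0_51 i) (Nat.ble 816 i)) (Nat.ble 800 i)) (Bool.rec (Bool.rec (sc0_52 i) (sc0_53 i) (Nat.ble 848 i)) (Bool.rec (sc0_54 i) (sc0_55 i) (Nat.ble 880 i)) (Nat.ble 864 i)) (Nat.ble 832 i)) (Bool.rec (Bool.rec (Bool.rec (sc0_56 i) (sc0_57 i) (Nat.ble 912 i)) (Bool.rec (sc0_58 i) (sc0_59 i) (Nat.ble 944 i)) (Nat.ble 928 i)) (Bool.rec (Bool.rec (sc0_60 i) (sc0_61 i) (Nat.ble 976 i)) (Bool.rec (sc0_62 i) (sc0_63 i) (Nat.ble 1008 i)) (Nat.ble 992 i)) (Nat.ble 960 i)) (Nat.ble 896 i))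
noncomputable def sc1_4 (i : ℕ) : ℕ := (Bool.rec (Bool.rec (Bool.rec (Bool.rec (sc0_64 i) (sc0_65 i) (Nat.ble 1040 i)) (Bool.rec (sc0_66 i) (sc0_67 i) (Nat.ble 1072 i)) (Nat.ble 1056 i)) (Bool.rec (Bool.rec (sc0_68 i) (sc0_69 i) (Nat.ble 1104 i)) (Bool.rec (sc0_70 i) (sc0_71 i) (Nat.ble 1136 i)) (Nat.ble 1120 i)) (Nat.ble 1088 i)) (Bool.rec (Bool.rec (Bool.rec (sc0_72 i) (sc0_73 i) (Nat.ble 1168 i)) (Bool.rec (sc0_74 i) (sc0_75 i) (Nat.ble 1200 i)) (Nat.ble 1184 i)) (Bool.rec (Bool.rec (sc0_76 i) (sc0_77 i) (Nat.ble 1232 i)) (Bool.rec (sc0_78 i) (sc0_79 i) (Nat.ble 1264 i)) (Nat.ble 1248 i)) (Nat.ble 1216 i)) (Nat.ble 1152 i))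
noncomputable def sc1_5 (i : ℕ) : ℕ := (Bool.rec (Bool.rec (Bool.rec (Bool.rec (sc0_80 i) (sc0_81 i) (Nat.ble 1296 i)) (Bool.rec (sc0_82 i) (sc0_83 i) (Nat.ble 1328 i)) (Nat.ble 1312 i)) (Bool.rec (Bool.rec (sc0_84 i) (sc0_85 i) (Nat.ble 1360 i)) (Bool.rec (sc0_86 i) (sc0_87 i) (Nat.ble 1392 i)) (Nat.ble 1376 i)) (Nat.ble 1344 i)) (Bool.rec (Bool.rec (Bool.rec (sc0_88 i) (sc0_89 i) (Nat.ble 1424 i)) (Bool.rec (sc0_90 i) (sc0_91 i) (Nat.ble 1456 i)) (Nat.ble 1440 i)) (Bool.rec (Bool.rec (sc0_92 i) (sc0_93 i) (Nat.ble 1488 i)) (Bool.rec (sc0_94 i) (sc0_95 i) (Nat.ble 1520 i)) (Nat.ble 1504 i)) (Nat.ble 1472 i)) (Nat.ble 1408 i))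
noncomputable def sc1_6 (i : ℕ) : ℕ := (Bool.rec (Bool.rec (Bool.rec (Bool.rec (sc0_96 i) (sc0_97 i) (Nat.ble 1552 i)) (Bool.rec (sc0_98 i) (sc0_99 i) (Nat.ble 1584 i)) (Nat.ble 1568 i)) (Bool.rec (Bool.rec (sc0_100 i) (sc0_101 i) (Nat.ble 1616 i)) (Bool.rec (sc0_102 i) (sc0_103 i) (Nat.ble 1648 i)) (Nat.ble 1632 i)) (Nat.ble 1600 i)) (Bool.rec (Bool.rec (Bool.rec (sc0_104 i) (sc0_105 i) (Nat.ble 1680 i)) (Bool.rec (sc0_106 i) (sc0_107 i) (Nat.ble 1712 i)) (Nat.ble 1696 i)) (Bool.rec (Bool.rec (sc0_108 i) (sc0_109 i) (Nat.ble 1744 i)) (Bool.rec (sc0_110 i) (sc0_111 i) (Nat.ble 1776 i)) (Nat.ble 1760 i)) (Nat.ble 1728 i)) (Nat.ble 1664 i))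
noncomputable def sc1_7 (i : ℕ) : ℕ := (Bool.rec (Bool.rec (Bool.rec (Bool.rec (sc0_112 i) (sc0_113 i) (Nat.ble 1808 i)) (Bool.rec (sc0_114 i) (sc0_115 i) (Nat.ble 1840 i)) (Nat.ble 1824 i)) (Bool.rec (Bool.rec (sc0_116 i) (sc0_117 i) (Nat.ble 1872 i)) (Bool.rec (sc0_118 i) (sc0_119 i) (Nat.ble 1904 i)) (Nat.ble 1888 i)) (Nat.ble 1856 i)) (Bool.rec (Bool.rec (Bool.rec (sc0_120 i) (sc0_121 i) (Nat.ble 1936 i)) (Bool.rec (sc0_122 i) (sc0_123 i) (Nat.ble 1968 i)) (Nat.ble 1952 i)) (Bool.rec (Bool.rec (sc0_124 i) (sc0_125 i) (Nat.ble 2000 i)) (Bool.rec (sc0_126 i) (sc0_127 i) (Nat.ble 2032 i)) (Nat.ble 2016 i)) (Nat.ble 1984 i)) (Nat.ble 1920 i))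
noncomputable def sc1_8 (i : ℕ) : ℕ := (Bool.rec (Bool.rec (Bool.rec (Bool.rec (sc0_128 i) (sc0_129 i) (Nat.ble 2064 i)) (Bool.rec (sc0_130 i) (sc0_131 i) (Nat.ble 2096 i)) (Nat.ble 2080 i)) (Bool.rec (Bool.rec (sc0_132 i) (sc0_133 i) (Nat.ble 2128 i)) (Bool.rec (sc0_134 i) (sc0_135 i) (Nat.ble 2160 i)) (Nat.ble 2144 i)) (Nat.ble 2112 i)) (Bool.rec (Bool.rec (Bool.rec (sc0_136 i) (sc0_137 i) (Nat.ble 2192 i)) (Bool.rec (sc0_138 i) (sc0_139 i) (Nat.ble 2224 i)) (Nat.ble 2208 i)) (Bool.rec (Bool.rec (sc0_140 i) (sc0_141 i) (Nat.ble 2256 i)) (Bool.rec (sc0_142 i) (sc0_143 i) (Nat.ble 2288 i)) (Nat.ble 2272 i)) (Nat.ble 2240 i)) (Nat.ble 2176 i))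
noncomputable def sc1_9 (i : ℕ) : ℕ := (Bool.rec (Bool.rec (Bool.rec (Bool.rec (sc0_144 i) (sc0_145 i) (Nat.ble 2320 i)) (Bool.rec (sc0_146 i) (sc0_147 i) (Nat.ble 2352 i)) (Nat.ble 2336 i)) (Bool.rec (Bool.rec (sc0_148 i) (sc0_149 i) (Nat.ble 2384 i)) (Bool.rec (sc0_150 i) (sc0_151 i) (Nat.ble 2416 i)) (Nat.ble 2400 i)) (Nat.ble 2368 i)) (Bool.rec (Bool.rec (Bool.rec (sc0_152 i) (sc0_153 i) (Nat.ble 2448 i)) (Bool.rec (sc0_154 i) (sc0_155 i) (Nat.ble 2480 i)) (Nat.ble 2464 i)) (Bool.rec (Bool.rec (sc0_156 i) (sc0_157 i) (Nat.ble 2512 i)) (Bool.rec (sc0_158 i) (sc0_159 i) (Nat.ble 2544 i)) (Nat.ble 2528 i)) (Nat.ble 2496 i)) (Nat.ble 2432 i))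
noncomputable def sc1_10 (i : ℕ) : ℕ := (Bool.rec (Bool.rec (Bool.rec (Bool.rec (sc0_160 i) (sc0_161 i) (Nat.ble 2576 i)) (Bool.rec (sc0_162 i) (sc0_163 i) (Nat.ble 2608 i)) (Nat.ble 2592 i)) (Bool.rec (Bool.rec (sc0_164 i) (sc0_165 i) (Nat.ble 2640 i)) (Bool.rec (sc0_166 i) (sc0_167 i) (Nat.ble 2672 i)) (Nat.ble 2656 i)) (Nat.ble 2624 i)) (Bool.rec (Bool.rec (Bool.rec (sc0_168 i) (sc0_169 i) (Nat.ble 2704 i)) (Bool.rec (sc0_170 i) (sc0_171 i) (Nat.ble 2736 i)) (Nat.ble 2720 i)) (Bool.rec (Bool.rec (sc0_172 i) (sc0_173 i) (Nat.ble 2768 i)) (Bool.rec (sc0_174 i) (sc0_175 i) (Nat.ble 2800 i)) (Nat.ble 2784 i)) (Nat.ble 2752 i)) (Nat.ble 2688 i))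
noncomputable def sc1_11 (i : ℕ) : ℕ := (Bool.rec (Bool.rec (Bool.rec (Bool.rec (sc0_176 i) (sc0_177 i) (Nat.ble 2832 i)) (Bool.rec (sc0_178 i) (sc0_179 i) (Nat.ble 2864 i)) (Nat.ble 2848 i)) (Bool.rec (Bool.rec (sc0_180 i) (sc0_181 i) (Nat.ble 2896 i)) (Bool.rec (sc0_182 i) (sc0_183 i) (Nat.ble 2928 i)) (Nat.ble 2912 i)) (Nat.ble 2880 i)) (Bool.rec (Bool.rec (Bool.rec (sc0_184 i) (sc0_185 i) (Nat.ble 2960 i)) (Bool.rec (sc0_186 i) (sc0_187 i) (Nat.ble 2992 i)) (Nat.ble 2976 i)) (Bool.rec (Bool.rec (sc0_188 i) (sc0_189 i) (Nat.ble 3024 i)) (Bool.rec (sc0_190 i) (sc0_191 i) (Nat.ble 3056 i)) (Nat.ble 3040 i)) (Nat.ble 3008 i)) (Nat.ble 2944 i))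
noncomputable def sc1_12 (i : ℕ) : ℕ := (Bool.rec (Bool.rec (Bool.rec (Bool.rec (sc0_192 i) (sc0_193 i) (Nat.ble 3088 i)) (Bool.rec (sc0_194 i) (sc0_195 i) (Nat.ble 3120 i)) (Nat.ble 3104 i)) (Bool.rec (Bool.rec (sc0_196 i) (sc0_197 i) (Nat.ble 3152 i)) (Bool.rec (sc0_198 i) (sc0_199 i) (Nat.ble 3184 i)) (Nat.ble 3168 i)) (Nat.ble 3136 i)) (Bool.rec (Bool.rec (Bool.rec (sc0_200 i) (sc0_201 i) (Nat.ble 3216 i)) (Bool.rec (sc0_202 i) (sc0_203 i) (Nat.ble 3248 i)) (Nat.ble 3232 i)) (Bool.rec (Bool.rec (sc0_204 i) (sc0_205 i) (Nat.ble 3280 i)) (Bool.rec (sc0_206 i) (sc0_207 i) (Nat.ble 3312 i)) (Nat.ble 3296 i)) (Nat.ble 3264 i)) (Nat.ble 3200 i))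
noncomputable def sc1_13 (i : ℕ) : ℕ := (Bool.rec (Bool.rec (Bool.rec (Bool.rec (sc0_208 i) (sc0_209 i) (Nat.ble 3344 i)) (Bool.rec (sc0_210 i) (sc0_211 i) (Nat.ble 3376 i)) (Nat.ble 3360 i)) (Bool.rec (Bool.rec (sc0_212 i) (sc0_213 i) (Nat.ble 3408 i)) (Bool.rec (sc0_214 i) (sc0_215 i) (Nat.ble 3440 i)) (Nat.ble 3424 i)) (Nat.ble 3392 i)) (Bool.rec (Bool.rec (Bool.rec (sc0_216 i) (sc0_217 i) (Nat.ble 3472 i)) (Bool.rec (sc0_218 i) (sc0_219 i) (Nat.ble 3504 i)) (Nat.ble 3488 i)) (Bool.rec (Bool.rec (sc0_220 i) (sc0_221 i) (Nat.ble 3536 i)) (Bool.rec (sc0_222 i) (sc0_223 i) (Nat.ble 3568 i)) (Nat.ble 3552 i)) (Nat.ble 3520 i)) (Nat.ble 3456 i))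
noncomputable def sc1_14 (i : ℕ) : ℕ := (Bool.rec (Bool.rec (Bool.rec (Bool.rec (sc0_224 i) (sc0_225 i) (Nat.ble 3600 i)) (Bool.rec (sc0_226 i) (sc0_227 i) (Nat.ble 3632 i)) (Nat.ble 3616 i)) (Bool.rec (Bool.rec (sc0_228 i) (sc0_229 i) (Nat.ble 3664 i)) (Bool.rec (sc0_230 i) (sc0_231 i) (Nat.ble 3696 i)) (Nat.ble 3680 i)) (Nat.ble 3648 i)) (Bool.rec (Bool.rec (Bool.rec (sc0_232 i) (sc0_233 i) (Nat.ble 3728 i)) (Bool.rec (sc0_234 i) (sc0_235 i) (Nat.ble 3760 i)) (Nat.ble 3744 i)) (Bool.rec (Bool.rec (sc0_236 i) (sc0_237 i) (Nat.ble 3792 i)) (Bool.rec (sc0_238 i) (sc0_239 i) (Nat.ble 3824 i)) (Nat.ble 3808 i)) (Nat.ble 3776 i)) (Nat.ble 3712 i))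
noncomputable def sc1_15 (i : ℕ) : ℕ := (Bool.rec (Bool.rec (Bool.rec (Bool.rec (sc0_240 i) (sc0_241 i) (Nat.ble 3856 i)) (Bool.rec (sc0_242 i) (sc0_243 i) (Nat.ble 3888 i)) (Nat.ble 3872 i)) (Bool.rec (Bool.rec (sc0_244 i) (sc0_245 i) (Nat.ble 3920 i)) (Bool.rec (sc0_246 i) (sc0_247 i) (Nat.ble 3952 i)) (Nat.ble 3936 i)) (Nat.ble 3904 i)) (Bool.rec (Bool.rec (Bool.rec (sc0_248 i) (sc0_249 i) (Nat.ble 3984 i)) (Bool.rec (sc0_250 i) (sc0_251 i) (Nat.ble 4016 i)) (Nat.ble 4000 i)) (Bool.rec (Bool.rec (sc0_252 i) (sc0_253 i) (Nat.ble 4048 i)) (Bool.rec (sc0_254 i) (sc0_255 i) (Nat.ble 4080 i)) (Nat.ble 4064 i)) (Nat.ble 4032 i)) (Nat.ble 3968 i))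
noncomputable def sc1_16 (i : ℕ) : ℕ := (Bool.rec (Bool.rec (Bool.rec (Bool.rec (sc0_256 i) (sc0_257 i) (Nat.ble 4112 i)) (Bool.rec (sc0_258 i) (sc0_259 i) (Nat.ble 4144 i)) (Nat.ble 4128 i)) (Bool.rec (Bool.rec (sc0_260 i) (sc0_261 i) (Nat.ble 4176 i)) (Bool.rec (sc0_262 i) (sc0_263 i) (Nat.ble 4208 i)) (Nat.ble 4192 i)) (Nat.ble 4160 i)) (Bool.rec (Bool.rec (Bool.rec (sc0_264 i) (sc0_265 i) (Nat.ble 4240 i)) (Bool.rec (sc0_266 i) (sc0_267 i) (Nat.ble 4272 i)) (Nat.ble 4256 i)) (Bool.rec (Bool.rec (sc0_268 i) (sc0_269 i) (Nat.ble 4304 i)) (Bool.rec (sc0_270 i) (sc0_271 i) (Nat.ble 4336 i)) (Nat.ble 4320 i)) (Nat.ble 4288 i)) (Nat.ble 4224 i))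
noncomputable def sc1_17 (i : ℕ) : ℕ := (Bool.rec (Bool.rec (Bool.rec (Bool.rec (sc0_272 i) (sc0_273 i) (Nat.ble 4368 i)) (Bool.rec (sc0_274 i) (sc0_275 i) (Nat.ble 4400 i)) (Nat.ble 4384 i)) (Bool.rec (Bool.rec (sc0_276 i) (sc0_277 i) (Nat.ble 4432 i)) (Bool.rec (sc0_278 i) (sc0_279 i) (Nat.ble 4464 i)) (Nat.ble 4448 i)) (Nat.ble 4416 i)) (Bool.rec (Bool.rec (Bool.rec (sc0_280 i) (sc0_281 i) (Nat.ble 4496 i)) (Bool.rec (sc0_282 i) (sc0_283 i) (Nat.ble 4528 i)) (Nat.ble 4512 i)) (Bool.rec (Bool.rec (sc0_284 i) (sc0_285 i) (Nat.ble 4560 i)) (Bool.rec (sc0_286 i) (sc0_287 i) (Nat.ble 4592 i)) (Nat.ble 4576 i)) (Nat.ble 4544 i)) (Nat.ble 4480 i))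
noncomputable def sc1_18 (i : ℕ) : ℕ := (Bool.rec (Bool.rec (Bool.rec (Bool.rec (sc0_288 i) (sc0_289 i) (Nat.ble 4624 i)) (Bool.rec (sc0_290 i) (sc0_291 i) (Nat.ble 4656 i)) (Nat.ble 4640 i)) (Bool.rec (Bool.rec (sc0_292 i) (sc0_293 i) (Nat.ble 4688 i)) (Bool.rec (sc0_294 i) (sc0_295 i) (Nat.ble 4720 i)) (Nat.ble 4704 i)) (Nat.ble 4672 i)) (Bool.rec (Bool.rec (Bool.rec (sc0_296 i) (sc0_297 i) (Nat.ble 4752 i)) (Bool.rec (sc0_298 i) (sc0_299 i) (Nat.ble 4784 i)) (Nat.ble 4768 i)) (Bool.rec (Bool.rec (sc0_300 i) (sc0_301 i) (Nat.ble 4816 i)) (Bool.rec (sc0_302 i) (sc0_303 i) (Nat.ble 4848 i)) (Nat.ble 4832 i)) (Nat.ble 4800 i)) (Nat.ble 4736 i))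
noncomputable def sc1_19 (i : ℕ) : ℕ := (Bool.rec (Bool.rec (Bool.rec (Bool.rec (sc0_304 i) (sc0_305 i) (Nat.ble 4880 i)) (Bool.rec (sc0_306 i) (sc0_307 i) (Nat.ble 4912 i)) (Nat.ble 4896 i)) (Bool.rec (Bool.rec (sc0_308 i) (sc0_309 i) (Nat.ble 4944 i)) (Bool.rec (sc0_310 i) (sc0_311 i) (Nat.ble 4976 i)) (Nat.ble 4960 i)) (Nat.ble 4928 i)) (Bool.rec (Bool.rec (Bool.rec (sc0_312 i) (sc0_313 i) (Nat.ble 5008 i)) (Bool.rec (sc0_314 i) (sc0_315 i) (Nat.ble 5040 i)) (Nat.ble 5024 i)) (Bool.rec (Bool.rec (sc0_316 i) (sc0_317 i) (Nat.ble 5072 i)) (Bool.rec (sc0_318 i) (sc0_319 i) (Nat.ble 5104 i)) (Nat.ble 5088 i)) (Nat.ble 5056 i)) (Nat.ble 4992 i))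
noncomputable def sc1_20 (i : ℕ) : ℕ := (Bool.rec (Bool.rec (Bool.rec (Bool.rec (sc0_320 i) (sc0_321 i) (Nat.ble 5136 i)) (Bool.rec (sc0_322 i) (sc0_323 i) (Nat.ble 5168 i)) (Nat.ble 5152 i)) (Bool.rec (Bool.rec (sc0_324 i) (sc0_325 i) (Nat.ble 5200 i)) (Bool.rec (sc0_326 i) (sc0_327 i) (Nat.ble 5232 i)) (Nat.ble 5216 i)) (Nat.ble 5184 i)) (Bool.rec (Bool.rec (Bool.rec (sc0_328 i) (sc0_329 i) (Nat.ble 5264 i)) (Bool.rec (sc0_330 i) (sc0_331 i) (Nat.ble 5296 i)) (Nat.ble 5280 i)) (Bool.rec (Bool.rec (sc0_332 i) (sc0_333 i) (Nat.ble 5328 i)) (Bool.rec (sc0_334 i) (sc0_335 i) (Nat.ble 5360 i)) (Nat.ble 5344 i)) (Nat.ble 5312 i)) (Nat.ble 5248 i))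
noncomputable def sc1_21 (i : ℕ) : ℕ := (Bool.rec (Bool.rec (Bool.rec (Bool.rec (sc0_336 i) (sc0_337 i) (Nat.ble 5392 i)) (Bool.rec (sc0_338 i) (sc0_339 i) (Nat.ble 5424 i)) (Nat.ble 5408 i)) (Bool.rec (Bool.rec (sc0_340 i) (sc0_341 i) (Nat.ble 5456 i)) (Bool.rec (sc0_342 i) (sc0_343 i) (Nat.ble 5488 i)) (Nat.ble 5472 i)) (Nat.ble 5440 i)) (Bool.rec (Bool.rec (Bool.rec (sc0_344 i) (sc0_345 i) (Nat.ble 5520 i)) (Bool.rec (sc0_346 i) (sc0_347 i) (Nat.ble 5552 i)) (Nat.ble 5536 i)) (Bool.rec (Bool.rec (sc0_348 i) (sc0_349 i) (Nat.ble 5584 i)) (Bool.rec (sc0_350 i) (sc0_351 i) (Nat.ble 5616 i)) (Nat.ble 5600 i)) (Nat.ble 5568 i)) (Nat.ble 5504 i))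
noncomputable def sc1_22 (i : ℕ) : ℕ := (Bool.rec (Bool.rec (sc0_352 i) (Bool.rec (sc0_353 i) (sc0_354 i) (Nat.ble 5664 i)) (Nat.ble 5648 i)) (Bool.rec (sc0_355 i) (Bool.rec (sc0_356 i) (sc0_357 i) (Nat.ble 5712 i)) (Nat.ble 5696 i)) (Nat.ble 5680 i))
noncomputable def sc2_0 (i : ℕ) : ℕ := (Bool.rec (Bool.rec (Bool.rec (Bool.rec (sc1_0 i) (sc1_1 i) (Nat.ble 256 i)) (Bool.rec (sc1_2 i) (sc1_3 i) (Nat.ble 768 i)) (Nat.ble 512 i)) (Bool.rec (Bool.rec (sc1_4 i) (sc1_5 i) (Nat.ble 1280 i)) (Bool.rec (sc1_6 i) (sc1_7 i) (Nat.ble 1792 i)) (Nat.ble 1536 i)) (Nat.ble 1024 i)) (Bool.rec (Bool.rec (Bool.rec (sc1_8 i) (sc1_9 i) (Nat.ble 2304 i)) (Bool.rec (sc1_10 i) (sc1_11 i) (Nat.ble 2816 i)) (Nat.ble 2560 i)) (Bool.rec (Bool.rec (sc1_12 i) (sc1_13 i) (Nat.ble 3328 i)) (Bool.rec (sc1_14 i)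 (sc1_15 i) (Nat.ble 3840 i)) (Nat.ble 3584 i)) (Nat.ble 3072 i)) (Nat.ble 2048 i))
noncomputable def sc2_1 (i : ℕ) : ℕ := (Bool.rec (Bool.rec (sc1_16 i) (Bool.rec (sc1_17 i) (sc1_18 i) (Nat.ble 4608 i)) (Nat.ble 4352 i)) (Bool.rec (Bool.rec (sc1_19 i) (sc1_20 i) (Nat.ble 5120 i)) (Bool.rec (sc1_21 i) (sc1_22 i) (Nat.ble 5632 i)) (Nat.ble 5376 i)) (Nat.ble 4864 i))
noncomputable def sc3_0 (i : ℕ) : ℕ := (Bool.rec (sc2_0 i) (sc2_1 i) (Nat.ble 4096 i))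
noncomputable def sc (i : ℕ) : ℕ := sc3_0 i
noncomputable def nc1_0 (i : ℕ) : ℕ := (Bool.rec (Bool.rec (Bool.rec (nc0_0 i) (Bool.rec (nc0_1 i) (nc0_2 i) (Nat.ble 32 i)) (Nat.ble 16 i)) (Bool.rec (Bool.rec (nc0_3 i) (nc0_4 i) (Nat.ble 64 i)) (Bool.rec (nc0_5 i) (nc0_6 i) (Nat.ble 96 i)) (Nat.ble 80 i)) (Nat.ble 48 i)) (Bool.rec (Bool.rec (Bool.rec (nc0_7 i) (nc0_8 i) (Nat.ble 128 i)) (Bool.rec (nc0_9 i) (nc0_10 i) (Nat.ble 160 i)) (Nat.ble 144 i)) (Bool.rec (Bool.rec (nc0_11 i) (nc0_12 i) (Nat.ble 192 i)) (Bool.rec (nc0_13 i) (nc0_14 i) (Nat.ble 224 i)) (Nat.ble 208 i)) (Nat.ble 176 i)) (Nat.ble 112 i))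
noncomputable def nc (i : ℕ) : ℕ := nc1_0 i
noncomputable def cc1_0 (i : ℕ) : ℕ := (Bool.rec (Bool.rec (Bool.rec (Bool.rec (cc0_0 i) (cc0_1 i) (Nat.ble 16 i)) (Bool.rec (cc0_2 i) (cc0_3 i) (Nat.ble 48 i)) (Nat.ble 32 i)) (Bool.rec (Bool.rec (cc0_4 i) (cc0_5 i) (Nat.ble 80 i)) (Bool.rec (cc0_6 i) (cc0_7 i) (Nat.ble 112 i)) (Nat.ble 96 i)) (Nat.ble 64 i)) (Bool.rec (Bool.rec (Bool.rec (cc0_8 i) (cc0_9 i) (Nat.ble 144 i)) (Bool.rec (cc0_10 i) (cc0_11 i) (Nat.ble 176 i)) (Nat.ble 160 i)) (Bool.rec (Bool.rec (cc0_12 i) (cc0_13 i) (Nat.ble 208 i)) (Bool.rec (cc0_14 i) (cc0_15 i) (Nat.ble 240 i)) (Nat.ble 224 i)) (Nat.ble 192 i)) (Nat.ble 128 i))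
noncomputable def cc1_1 (i : ℕ) : ℕ := (Bool.rec (Bool.rec (Bool.rec (Bool.rec (cc0_16 i) (cc0_17 i) (Nat.ble 272 i)) (Bool.rec (cc0_18 i) (cc0_19 i) (Nat.ble 304 i)) (Nat.ble 288 i)) (Bool.rec (Bool.rec (cc0_20 i) (cc0_21 i) (Nat.ble 336 i)) (Bool.rec (cc0_22 i) (cc0_23 i) (Nat.ble 368 i)) (Nat.ble 352 i)) (Nat.ble 320 i)) (Bool.rec (Bool.rec (Bool.rec (cc0_24 i) (cc0_25 i) (Nat.ble 400 i)) (Bool.rec (cc0_26 i) (cc0_27 i) (Nat.ble 432 i)) (Nat.ble 416 i)) (Bool.rec (Bool.rec (cc0_28 i) (cc0_29 i) (Nat.ble 464 i)) (Bool.rec (cc0_30 i) (cc0_31 i) (Nat.ble 496 i)) (Nat.ble 480 i)) (Nat.ble 448 i)) (Nat.ble 384 i))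
noncomputable def cc1_2 (i : ℕ) : ℕ := (Bool.rec (Bool.rec (Bool.rec (Bool.rec (cc0_32 i) (cc0_33 i) (Nat.ble 528 i)) (Bool.rec (cc0_34 i) (cc0_35 i) (Nat.ble 560 i)) (Nat.ble 544 i)) (Bool.rec (Bool.rec (cc0_36 i) (cc0_37 i) (Nat.ble 592 i)) (Bool.rec (cc0_38 i) (cc0_39 i) (Nat.ble 624 i)) (Nat.ble 608 i)) (Nat.ble 576 i)) (Bool.rec (Bool.rec (Bool.rec (cc0_40 i) (cc0_41 i) (Nat.ble 656 i)) (Bool.rec (cc0_42 i) (cc0_43 i) (Nat.ble 688 i)) (Nat.ble 672 i)) (Bool.rec (Bool.rec (cc0_44 i) (cc0_45 i) (Nat.ble 720 i)) (Bool.rec (cc0_46 i) (cc0_47 i) (Nat.ble 752 i)) (Nat.ble 736 i)) (Nat.ble 704 i)) (Nat.ble 640 i))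
noncomputable def cc1_3 (i : ℕ) : ℕ := (Bool.rec (Bool.rec (Bool.rec (Bool.rec (cc0_48 i) (cc0_49 i) (Nat.ble 784 i)) (Bool.rec (cc0_50 i) (cc0_51 i) (Nat.ble 816 i)) (Nat.ble 800 i)) (Bool.rec (Bool.rec (cc0_52 i) (cc0_53 i) (Nat.ble 848 i)) (Bool.rec (cc0_54 i) (cc0_55 i) (Nat.ble 880 i)) (Nat.ble 864 i)) (Nat.ble 832 i)) (Bool.rec (Bool.rec (Bool.rec (cc0_56 i) (cc0_57 i) (Nat.ble 912 i)) (Bool.rec (cc0_58 i) (cc0_59 i) (Nat.ble 944 i)) (Nat.ble 928 i)) (Bool.rec (Bool.rec (cc0_60 i) (cc0_61 i) (Nat.ble 976 i)) (Bool.rec (cc0_62 i) (cc0_63 i) (Nat.ble 1008 i)) (Nat.ble 992 i)) (Nat.ble 960 i)) (Nat.ble 896 i))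
noncomputable def cc1_4 (i : ℕ) : ℕ := (Bool.rec (Bool.rec (Bool.rec (Bool.rec (cc0_64 i) (cc0_65 i) (Nat.ble 1040 i)) (Bool.rec (cc0_66 i) (cc0_67 i) (Nat.ble 1072 i)) (Nat.ble 1056 i)) (Bool.rec (Bool.rec (cc0_68 i) (cc0_69 i) (Nat.ble 1104 i)) (Bool.rec (cc0_70 i) (cc0_71 i) (Nat.ble 1136 i)) (Nat.ble 1120 i)) (Nat.ble 1088 i)) (Bool.rec (Bool.rec (Bool.rec (cc0_72 i) (cc0_73 i) (Nat.ble 1168 i)) (Bool.rec (cc0_74 i) (cc0_75 i) (Nat.ble 1200 i)) (Nat.ble 1184 i)) (Bool.rec (Bool.rec (cc0_76 i) (cc0_77 i) (Nat.ble 1232 i)) (Bool.rec (cc0_78 i) (cc0_79 i) (Nat.ble 1264 i)) (Nat.ble 1248 i)) (Nat.ble 1216 i)) (Nat.ble 1152 i))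
noncomputable def cc1_5 (i : ℕ) : ℕ := (Bool.rec (Bool.rec (Bool.rec (Bool.rec (cc0_80 i) (cc0_81 i) (Nat.ble 1296 i)) (Bool.rec (cc0_82 i) (cc0_83 i) (Nat.ble 1328 i)) (Nat.ble 1312 i)) (Bool.rec (Bool.rec (cc0_84 i) (cc0_85 i) (Nat.ble 1360 i)) (Bool.rec (cc0_86 i) (cc0_87 i) (Nat.ble 1392 i)) (Nat.ble 1376 i)) (Nat.ble 1344 i)) (Bool.rec (Bool.rec (Bool.rec (cc0_88 i) (cc0_89 i) (Nat.ble 1424 i)) (Bool.rec (cc0_90 i) (cc0_91 i) (Nat.ble 1456 i)) (Nat.ble 1440 i)) (Bool.rec (Bool.rec (cc0_92 i) (cc0_93 i) (Nat.ble 1488 i)) (Bool.rec (cc0_94 i) (cc0_95 i) (Nat.ble 1520 i)) (Nat.ble 1504 i)) (Nat.ble 1472 i)) (Nat.ble 1408 i))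
noncomputable def cc1_6 (i : ℕ) : ℕ := (Bool.rec (Bool.rec (Bool.rec (Bool.rec (cc0_96 i) (cc0_97 i) (Nat.ble 1552 i)) (Bool.rec (cc0_98 i) (cc0_99 i) (Nat.ble 1584 i)) (Nat.ble 1568 i)) (Bool.rec (Bool.rec (cc0_100 i) (cc0_101 i) (Nat.ble 1616 i)) (Bool.rec (cc0_102 i) (cc0_103 i) (Nat.ble 1648 i)) (Nat.ble 1632 i)) (Nat.ble 1600 i)) (Bool.rec (Bool.rec (Bool.rec (cc0_104 i) (cc0_105 i) (Nat.ble 1680 i)) (Bool.rec (cc0_106 i) (cc0_107 i) (Nat.ble 1712 i)) (Nat.ble 1696 i)) (Bool.rec (Bool.rec (cc0_108 i) (cc0_109 i) (Nat.ble 1744 i)) (Bool.rec (cc0_110 i) (cc0_111 i) (Nat.ble 1776 i)) (Nat.ble 1760 i)) (Nat.ble 1728 i)) (Nat.ble 1664 i))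
noncomputable def cc1_7 (i : ℕ) : ℕ := (Bool.rec (Bool.rec (Bool.rec (Bool.rec (cc0_112 i) (cc0_113 i) (Nat.ble 1808 i)) (Bool.rec (cc0_114 i) (cc0_115 i) (Nat.ble 1840 i)) (Nat.ble 1824 i)) (Bool.rec (Bool.rec (cc0_116 i) (cc0_117 i) (Nat.ble 1872 i)) (Bool.rec (cc0_118 i) (cc0_119 i) (Nat.ble 1904 i)) (Nat.ble 1888 i)) (Nat.ble 1856 i)) (Bool.rec (Bool.rec (Bool.rec (cc0_120 i) (cc0_121 i) (Nat.ble 1936 i)) (Bool.rec (cc0_122 i) (cc0_123 i) (Nat.ble 1968 i)) (Nat.ble 1952 i)) (Bool.rec (Bool.rec (cc0_124 i) (cc0_125 i) (Nat.ble 2000 i)) (Bool.rec (cc0_126 i) (cc0_127 i) (Nat.ble 2032 i)) (Nat.ble 2016 i)) (Nat.ble 1984 i)) (Nat.ble 1920 i))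
noncomputable def cc1_8 (i : ℕ) : ℕ := (Bool.rec (Bool.rec (Bool.rec (Bool.rec (cc0_128 i) (cc0_129 i) (Nat.ble 2064 i)) (Bool.rec (cc0_130 i) (cc0_131 i) (Nat.ble 2096 i)) (Nat.ble 2080 i)) (Bool.rec (Bool.rec (cc0_132 i) (cc0_133 i) (Nat.ble 2128 i)) (Bool.rec (cc0_134 i) (cc0_135 i) (Nat.ble 2160 i)) (Nat.ble 2144 i)) (Nat.ble 2112 i)) (Bool.rec (Bool.rec (Bool.rec (cc0_136 i) (cc0_137 i) (Nat.ble 2192 i)) (Bool.rec (cc0_138 i) (cc0_139 i) (Nat.ble 2224 i)) (Nat.ble 2208 i)) (Bool.rec (Bool.rec (cc0_140 i) (cc0_141 i) (Nat.ble 2256 i)) (Bool.rec (cc0_142 i) (cc0_143 i) (Nat.ble 2288 i)) (Nat.ble 2272 i)) (Nat.ble 2240 i)) (Nat.ble 2176 i))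
noncomputable def cc1_9 (i : ℕ) : ℕ := (Bool.rec (Bool.rec (Bool.rec (Bool.rec (cc0_144 i) (cc0_145 i) (Nat.ble 2320 i)) (Bool.rec (cc0_146 i) (cc0_147 i) (Nat.ble 2352 i)) (Nat.ble 2336 i)) (Bool.rec (Bool.rec (cc0_148 i) (cc0_149 i) (Nat.ble 2384 i)) (Bool.rec (cc0_150 i) (cc0_151 i) (Nat.ble 2416 i)) (Nat.ble 2400 i)) (Nat.ble 2368 i)) (Bool.rec (Bool.rec (Bool.rec (cc0_152 i) (cc0_153 i) (Nat.ble 2448 i)) (Bool.rec (cc0_154 i) (cc0_155 i) (Nat.ble 2480 i)) (Nat.ble 2464 i)) (Bool.rec (Bool.rec (cc0_156 i) (cc0_157 i) (Nat.ble 2512 i)) (Bool.rec (cc0_158 i) (cc0_159 i) (Nat.ble 2544 i)) (Nat.ble 2528 i)) (Nat.ble 2496 i)) (Nat.ble 2432 i))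
noncomputable def cc1_10 (i : ℕ) : ℕ := (Bool.rec (Bool.rec (Bool.rec (Bool.rec (cc0_160 i) (cc0_161 i) (Nat.ble 2576 i)) (Bool.rec (cc0_162 i) (cc0_163 i) (Nat.ble 2608 i)) (Nat.ble 2592 i)) (Bool.rec (Bool.rec (cc0_164 i) (cc0_165 i) (Nat.ble 2640 i)) (Bool.rec (cc0_166 i) (cc0_167 i) (Nat.ble 2672 i)) (Nat.ble 2656 i)) (Nat.ble 2624 i)) (Bool.rec (Bool.rec (Bool.rec (cc0_168 i) (cc0_169 i) (Nat.ble 2704 i)) (Bool.rec (cc0_170 i) (cc0_171 i) (Nat.ble 2736 i)) (Nat.ble 2720 i)) (Bool.rec (Bool.rec (cc0_172 i) (cc0_173 i) (Nat.ble 2768 i)) (Bool.rec (cc0_174 i) (cc0_175 i) (Nat.ble 2800 i)) (Nat.ble 2784 i)) (Nat.ble 2752 i)) (Nat.ble 2688 i))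
noncomputable def cc1_11 (i : ℕ) : ℕ := (Bool.rec (Bool.rec (Bool.rec (Bool.rec (cc0_176 i) (cc0_177 i) (Nat.ble 2832 i)) (Bool.rec (cc0_178 i) (cc0_179 i) (Nat.ble 2864 i)) (Nat.ble 2848 i)) (Bool.rec (Bool.rec (cc0_180 i) (cc0_181 i) (Nat.ble 2896 i)) (Bool.rec (cc0_182 i) (cc0_183 i) (Nat.ble 2928 i)) (Nat.ble 2912 i)) (Nat.ble 2880 i)) (Bool.rec (Bool.rec (Bool.rec (cc0_184 i) (cc0_185 i) (Nat.ble 2960 i)) (Bool.rec (cc0_186 i) (cc0_187 i) (Nat.ble 2992 i)) (Nat.ble 2976 i)) (Bool.rec (Bool.rec (cc0_188 i) (cc0_189 i) (Nat.ble 3024 i)) (Bool.rec (cc0_190 i) (cc0_191 i) (Nat.ble 3056 i)) (Nat.ble 3040 i)) (Nat.ble 3008 i)) (Nat.ble 2944 i))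
noncomputable def cc1_12 (i : ℕ) : ℕ := (Bool.rec (Bool.rec (Bool.rec (Bool.rec (cc0_192 i) (cc0_193 i) (Nat.ble 3088 i)) (Bool.rec (cc0_194 i) (cc0_195 i) (Nat.ble 3120 i)) (Nat.ble 3104 i)) (Bool.rec (Bool.rec (cc0_196 i) (cc0_197 i) (Nat.ble 3152 i)) (Bool.rec (cc0_198 i) (cc0_199 i) (Nat.ble 3184 i)) (Nat.ble 3168 i)) (Nat.ble 3136 i)) (Bool.rec (Bool.rec (Bool.rec (cc0_200 i) (cc0_201 i) (Nat.ble 3216 i)) (Bool.rec (cc0_202 i) (cc0_203 i) (Nat.ble 3248 i)) (Nat.ble 3232 i)) (Bool.rec (Bool.rec (cc0_204 i) (cc0_205 i) (Nat.ble 3280 i)) (Bool.rec (cc0_206 i) (cc0_207 i) (Nat.ble 3312 i)) (Nat.ble 3296 i)) (Nat.ble 3264 i)) (Nat.ble 3200 i))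
noncomputable def cc1_13 (i : ℕ) : ℕ := (Bool.rec (Bool.rec (Bool.rec (Bool.rec (cc0_208 i) (cc0_209 i) (Nat.ble 3344 i)) (Bool.rec (cc0_210 i) (cc0_211 i) (Nat.ble 3376 i)) (Nat.ble 3360 i)) (Bool.rec (Bool.rec (cc0_212 i) (cc0_213 i) (Nat.ble 3408 i)) (Bool.rec (cc0_214 i) (cc0_215 i) (Nat.ble 3440 i)) (Nat.ble 3424 i)) (Nat.ble 3392 i)) (Bool.rec (Bool.rec (Bool.rec (cc0_216 i) (cc0_217 i) (Nat.ble 3472 i)) (Bool.rec (cc0_218 i) (cc0_219 i) (Nat.ble 3504 i)) (Nat.ble 3488 i)) (Bool.rec (Bool.rec (cc0_220 i) (cc0_221 i) (Nat.ble 3536 i)) (Bool.rec (cc0_222 i) (cc0_223 i) (Nat.ble 3568 i)) (Nat.ble 3552 i)) (Nat.ble 3520 i)) (Nat.ble 3456 i))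
noncomputable def cc1_14 (i : ℕ) : ℕ := (Bool.rec (Bool.rec (Bool.rec (Bool.rec (cc0_224 i) (cc0_225 i) (Nat.ble 3600 i)) (Bool.rec (cc0_226 i) (cc0_227 i) (Nat.ble 3632 i)) (Nat.ble 3616 i)) (Bool.rec (Bool.rec (cc0_228 i) (cc0_229 i) (Nat.ble 3664 i)) (Bool.rec (cc0_230 i) (cc0_231 i) (Nat.ble 3696 i)) (Nat.ble 3680 i)) (Nat.ble 3648 i)) (Bool.rec (Bool.rec (Bool.rec (cc0_232 i) (cc0_233 i) (Nat.ble 3728 i)) (Bool.rec (cc0_234 i) (cc0_235 i) (Nat.ble 3760 i)) (Nat.ble 3744 i)) (Bool.rec (Bool.rec (cc0_236 i) (cc0_237 i) (Nat.ble 3792 i)) (Bool.rec (cc0_238 i) (cc0_239 i) (Nat.ble 3824 i)) (Nat.ble 3808 i)) (Nat.ble 3776 i)) (Nat.ble 3712 i))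
noncomputable def cc2_0 (i : ℕ) : ℕ := (Bool.rec (Bool.rec (Bool.rec (cc1_0 i) (Bool.rec (cc1_1 i) (cc1_2 i) (Nat.ble 512 i)) (Nat.ble 256 i)) (Bool.rec (Bool.rec (cc1_3 i) (cc1_4 i) (Nat.ble 1024 i)) (Bool.rec (cc1_5 i) (cc1_6 i) (Nat.ble 1536 i)) (Nat.ble 1280 i)) (Nat.ble 768 i)) (Bool.rec (Bool.rec (Bool.rec (cc1_7 i) (cc1_8 i) (Nat.ble 2048 i)) (Bool.rec (cc1_9 i) (cc1_10 i) (Nat.ble 2560 i)) (Nat.ble 2304 i)) (Bool.rec (Bool.rec (cc1_11 i) (cc1_12 i) (Nat.ble 3072 i)) (Bool.rec (cc1_13 i) (cc1_14 i) (Nat.ble 3584 i)) (Nat.ble 3328 i)) (Nat.ble 2816 i)) (Nat.ble 1792 i))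
noncomputable def cc (i : ℕ) : ℕ := cc2_0 i

noncomputable def INV : ℕ := 9043225707584
def isH (l : ℕ) : Bool := decide (l ∈ [3, 4, 5, 6, 7, 8])
def gens : List ℕ := [1, 3, 4, 5, 6, 7, 8]
def rt : RT := (.node 17 (.node 8 (.node 4 (.node 2 (.node 1 (.leaf 45 2 [2, 2, 3, 8]) (.leaf 45 3 [2, 3, 8, 2])) (.node 3 (.leaf 8 0 [8, 8]) (.leaf 2 0 [2, 1]))) (.node 6 (.node 5 (.leaf 7 0 [7, 7]) (.leaf 1 0 [1, 2])) (.node 7 (.leaf 6 0 [6, 6]) (.leaf 13 0 [3, 7, 3, 7])))) (.node 13 (.node 11 (.node 10 (.node 9 (.leaf 25 0 [5, 7, 5, 7]) (.leaf 19 0 [4, 7, 4, 7])) (.leaf 3 0 [3, 3])) (.node 12 (.leaf 5 0 [5, 5]) (.leaf 12 0 [3, 6, 3, 6]))) (.node 15 (.node 14 (.leaf 18 0 [4, 6, 4, 6]) (.leaf 4 0 [4, 4])) (.node 16 (.leaf 32 1 [8, 6, 8, 6]) (.leaf 26 1 [8, 5, 8, 5]))))) (.node 34 (.node 24 (.node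 21 (.node 19 (.node 18 (.leaf 45 0 [3, 8, 2, 2]) (.leaf 14 0 [3, 8, 3, 8])) (.node 20 (.leaf 11 0 [3, 5, 3, 5]) (.leaf 20 1 [8, 4, 8, 4]))) (.node 23 (.node 22 (.leaf 45 1 [8, 2, 2, 3]) (.leaf 20 0 [4, 8, 4, 8])) (.leaf 31 1 [7, 6, 7, 6, 7, 6]))) (.node 29 (.node 27 (.node 26 (.node 25 (.leaf 31 0 [6, 7, 6, 7, 6, 7]) (.leaf 32 0 [6, 8, 6, 8])) (.leaf 25 1 [7, 5, 7, 5])) (.node 28 (.leaf 26 0 [5, 8, 5, 8]) (.leaf 51 6 [1, 7, 6, 1, 6, 1, 7, 6, 1, 6, 7]))) (.node 32 (.node 31 (.node 30 (.leaf 38 1 [8, 7, 8, 7, 8, 7]) (.leaf 38 0 [7, 8, 7, 8, 7, 8])) (.leaf 47 3 [2, 6, 5, 6, 1, 6, 1, 5, 2, 6])) (.node 33 (.leaf 17 1 [5, 4, 5, 4, 5, 4]) (.leaf 47 7 [1, 6, 1, 5, 2, 6, 2, 6, 5, 6]))))) (.node 50 (.node 41 (.node 38 (.node 36 (.node 35 (.leaf 18 1 [6, 4, 6, 4]) (.leaf 19 1 [7, 4, 7, 4]))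 (.node 37 (.leaf 14 1 [8, 3, 8, 3]) (.leaf 48 7 [1, 5, 1, 6, 2, 5, 2, 5, 6, 5]))) (.node 40 (.node 39 (.leaf 48 3 [2, 5, 6, 5, 1, 5, 1, 6, 2, 5]) (.leaf 51 5 [7, 1, 7, 6, 1, 6, 1, 7, 6, 1, 6])) (.leaf 50 6 [1, 4, 5, 1, 5, 1, 4, 5, 1, 5, 4]))) (.node 46 (.node 44 (.node 43 (.node 42 (.leaf 17 0 [4, 5, 4, 5, 4, 5]) (.leaf 51 0 [1, 7, 6, 1, 6, 7, 1, 7, 6, 1, 6])) (.leaf 46 3 [5, 6, 5, 6, 5, 6, 5, 3, 8, 6])) (.node 45 (.leaf 10 1 [4, 3, 4, 3, 4, 3]) (.leaf 50 5 [4, 1, 4, 5, 1, 5, 1, 4, 5, 1, 5]))) (.node 48 (.node 47 (.leaf 50 3 [1, 5, 4, 1, 4, 5, 1, 5, 1, 4, 5]) (.leaf 10 0 [3, 4, 3, 4, 3, 4])) (.node 49 (.leaf 46 4 [6, 5, 6, 5, 6, 5, 3, 8, 6, 5]) (.leaf 51 3 [1, 6, 7, 1, 7, 6, 1, 6, 1, 7, 6]))))) (.node 63 (.node 56 (.node 53 (.node 52 (.node 51 (.leaf 47 8 [6, 1, 5, 2, 6, 2, 6, 5,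 6, 1]) (.leaf 11 1 [5, 3, 5, 3])) (.leaf 51 4 [6, 7, 1, 7, 6, 1, 6, 1, 7, 6, 1])) (.node 55 (.node 54 (.leaf 50 0 [1, 4, 5, 1, 5, 4, 1, 4, 5, 1, 5]) (.leaf 50 4 [5, 4, 1, 4, 5, 1, 5, 1, 4, 5, 1])) (.leaf 13 1 [7, 3, 7, 3]))) (.node 60 (.node 58 (.node 57 (.leaf 47 1 [2, 6, 2, 6, 5, 6, 1, 6, 1, 5]) (.leaf 12 1 [6, 3, 6, 3])) (.node 59 (.leaf 47 4 [6, 5, 6, 1, 6, 1, 5, 2, 6, 2]) (.leaf 48 4 [5, 6, 5, 1, 5, 1, 6, 2, 5, 2]))) (.node 62 (.node 61 (.leaf 48 8 [5, 1, 6, 2, 5, 2, 5, 6, 5, 1]) (.leaf 51 1 [7, 6, 1, 6, 7, 1, 7, 6, 1, 6, 1])) (.leaf 50 1 [4, 5, 1, 5, 4, 1, 4, 5, 1, 5, 1])))) (.node 73 (.node 68 (.node 66 (.node 65 (.node 64 (.leaf 51 7 [7, 6, 1, 6, 1, 7, 6, 1, 6, 7, 1]) (.leaf 48 2 [5, 2, 5, 6, 5, 1, 5, 1, 6, 2])) (.leaf 47 2 [6, 2, 6, 5, 6, 1, 6, 1, 5, 2])) (.node 67 (.leaf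 50 7 [4, 5, 1, 5, 1, 4, 5, 1, 5, 4, 1]) (.leaf 51 2 [6, 1, 6, 7, 1, 7, 6, 1, 6, 1, 7]))) (.node 71 (.node 70 (.node 69 (.leaf 47 0 [5, 2, 6, 2, 6, 5, 6, 1, 6, 1]) (.leaf 51 9 [1, 6, 1, 7, 6, 1, 6, 7, 1, 7, 6])) (.leaf 50 2 [5, 1, 5, 4, 1, 4, 5, 1, 5, 1, 4])) (.node 72 (.leaf 50 10 [5, 1, 4, 5, 1, 5, 4, 1, 4, 5, 1]) (.leaf 50 9 [1, 5, 1, 4, 5, 1, 5, 4, 1, 4, 5])))) (.node 81 (.node 77 (.node 75 (.node 74 (.leaf 47 9 [1, 5, 2, 6, 2, 6, 5, 6, 1, 6]) (.leaf 51 10 [6, 1, 7, 6, 1, 6, 7, 1, 7, 6, 1])) (.node 76 (.leaf 48 1 [2, 5, 2, 5, 6, 5, 1, 5, 1, 6]) (.leaf 51 8 [6, 1, 6, 1, 7, 6, 1, 6, 7, 1, 7]))) (.node 79 (.node 78 (.leaf 50 8 [5, 1, 5, 1, 4, 5, 1, 5, 4, 1, 4]) (.leaf 48 9 [1, 6, 2, 5, 2, 5, 6, 5, 1, 5])) (.node 80 (.leaf 0 0 []) (.leaf 47 6 [6, 1, 6, 1, 5, 2, 6, 2, 6, 5])))) (.node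 87 (.node 84 (.node 83 (.node 82 (.leaf 49 3 [1, 4, 5, 6, 1, 4, 5, 6, 1, 4, 5, 6, 1, 4, 5, 6, 1, 4, 5, 6]) (.leaf 48 6 [5, 1, 5, 1, 6, 2, 5, 2, 5, 6])) (.leaf 48 0 [6, 2, 5, 2, 5, 6, 5, 1, 5, 1])) (.node 86 (.node 85 (.leaf 46 5 [5, 6, 5, 6, 5, 3, 8, 6, 5, 6]) (.leaf 47 5 [5, 6, 1, 6, 1, 5, 2, 6, 2, 6])) (.leaf 49 2 [6, 1, 4, 5, 6, 1, 4, 5, 6, 1, 4, 5, 6, 1, 4, 5, 6, 1, 4, 5]))) (.node 91 (.node 89 (.node 88 (.leaf 49 0 [4, 5, 6, 1, 4, 5, 6, 1, 4, 5, 6, 1, 4, 5, 6, 1, 4, 5, 6, 1]) (.leaf 48 5 [6, 5, 1, 5, 1, 6, 2, 5, 2, 5])) (.node 90 (.leaf 46 1 [8, 6, 5, 6, 5, 6, 5, 6, 5, 3]) (.leaf 49 1 [5, 6, 1, 4, 5, 6, 1, 4, 5, 6, 1, 4, 5, 6, 1, 4, 5, 6, 1, 4]))) (.node 94 (.node 93 (.node 92 (.leaf 46 2 [6, 5, 6, 5, 6, 5, 6, 5, 3, 8]) (.leaf 46 9 [5, 3, 8, 6, 5, 6, 5, 6, 5, 6])) (.leaf 46 7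 [5, 6, 5, 3, 8, 6, 5, 6, 5, 6])) (.node 96 (.node 95 (.leaf 46 8 [6, 5, 3, 8, 6, 5, 6, 5, 6, 5]) (.leaf 46 0 [3, 8, 6, 5, 6, 5, 6, 5, 6, 5])) (.node 97 (.leaf 46 6 [6, 5, 6, 5, 3, 8, 6, 5, 6, 5]) (.node 98 (.leaf 24 1 [6, 5, 6, 5, 6, 5, 6, 5, 6, 5, 6, 5, 6, 5, 6, 5]) (.leaf 24 0 [5, 6, 5, 6, 5, 6, 5, 6, 5, 6, 5, 6, 5, 6, 5, 6])))))))))))))


end Cfsg.Agent.Lib.Helper11.ONa
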